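import Mathlib
import Cfsg.Prelude.Def_Blocks
import Cfsg.Agent.Lib.Helper15.Clifford2
import Cfsg.Agent.Lib.Helper78.Osima
import Cfsg.Agent.Lib.Helper80.Induced

/-!
# Blocks and normal subgroups (covering of blocks)
-/

set_option autoImplicit false

namespace Cfsg.Agent.Lib.Helper35

open Cfsg Cfsg.Agent.Lib.Helper15 Cfsg.Agent.Lib.Helper78 Cfsg.Agent.Lib.Helper74
open scoped ComplexConjugate

section closed

variable {X : Type*} [Group X] [Fintype X] {M : Ideal AlgInt}

open Classical in
/-- the indicator of a union of blocks lies in the image ring -/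
theorem indicator_mem_imgRing_of_closed (hM : M.IsPrime) {A : Set (IrrCharacter X)}
    (hA : ∀ χ ∈ A, blockOf M (χ : X → ℂ) ⊆ A) :
    (fun χ : IrrCharacter X => if χ ∈ A then (1 : ℂ) else 0) ∈ imgRing X M hM := by
  have h1 : (1 - ∏ χ ∈ Finset.univ.filter (fun χ : IrrCharacter X => χ ∈ A),
      (1 - fun ψ : IrrCharacter X => if ψ ∈ blockOf M (χ : X → ℂ) then (1 : ℂ) else 0))
      ∈ imgRing X M hM := by
    apply Subring.sub_mem _ (Subring.one_mem _)
    apply Subring.prod_mem
    intro χ _
    exact Subring.sub_mem _ (Subring.one_mem _) (indicator_mem_imgRing hM (isPBlock_blockOf χ))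
  convert h1 using 1
  funext ψ
  simp only [Pi.sub_apply, Pi.one_apply, Finset.prod_apply]
  by_cases hψ : ψ ∈ A
  · rw [if_pos hψ]
    rw [Finset.prod_eq_zero (i := ψ) (by simp [hψ])]
    · simp
    · rw [if_pos (mem_blockOf_self hM ψ)]; simp
  · rw [if_neg hψ]
    rw [Finset.prod_eq_one]
    · simp
    · intro χ hχ
      rw [Finset.mem_filter] at hχ
      rw [if_neg (fun h => hψ (hA χ hχ.2 h))]; simp

/-- the idempotent of a union of blocks has local integer coefficients -/
theorem memLocalRing_blockCoeff_of_closed (hM : M.IsPrime) {A : Set (IrrCharacter X)}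
    (hA : ∀ χ ∈ A, blockOf M (χ : X → ℂ) ⊆ A) (g : X) : MemLocalRing M (blockCoeff A g) := by
  classical
  obtain ⟨a, ha, ha', hav⟩ := indicator_mem_imgRing_of_closed hM hA
  have : a = blockCoeff A := eq_of_omega_eq ha (blockCoeff_isClassFunction A) fun χ => by
    rw [hav, omega_blockCoeff]
  rw [← this]
  exact ha' g

end closed

section normal

variable {G : Type*} [Group G] [Fintype G] (N : Subgroup G) [hN : N.Normal]

/-- conjugation as a permutation of `Irr(N)` -/
noncomputable def cjIrr (g : G) : IrrCharacter N ≃ IrrCharacter N where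
  toFun φ := ⟨cj N g φ, irr_cj N g φ.2⟩
  invFun φ := ⟨cj N g⁻¹ φ, irr_cj N g⁻¹ φ.2⟩
  left_inv φ := Subtype.ext (cj_inv_cj N g φ)
  right_inv φ := Subtype.ext (cj_cj_inv N g φ)

theorem cjIrr_coe (g : G) (φ : IrrCharacter N) : ((cjIrr N g φ : IrrCharacter N) : N → ℂ) = cj N g φ := rfl

omit [Fintype G] in
theorem centralChar_cj (g : G) (θ : N → ℂ) (n : N) :
    centralChar (cj N g θ) n = centralChar θ ⟨g * n * g⁻¹, hN.conj_mem n n.2 g⟩ := by
  unfold centralChar
  rw [cj_apply_one, cj_apply]
  congr 3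
  have h : Subgroup.centralizer ({(⟨g * n * g⁻¹, hN.conj_mem n n.2 g⟩ : N)} : Set N) =
      (Subgroup.centralizer ({n} : Set N)).map (MulAut.conjNormal g : N ≃* N).toMonoidHom := by
    ext x
    rw [Subgroup.mem_map_equiv, Subgroup.mem_centralizer_singleton_iff,
      Subgroup.mem_centralizer_singleton_iff]
    constructor
    · intro h
      apply Subtype.ext
      have h' := congrArg Subtype.val h
      simp only [Subgroup.coe_mul, MulAut.conjNormal_symm_apply] at h' ⊢
      calc g⁻¹ * x * g * n = g⁻¹ * (x * (g * n * g⁻¹)) * g := by group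
        _ = g⁻¹ * ((g * n * g⁻¹) * x) * g := by rw [h']
        _ = n * (g⁻¹ * x * g) := by group
    · intro h
      apply Subtype.ext
      have h' := congrArg Subtype.val h
      simp only [Subgroup.coe_mul, MulAut.conjNormal_symm_apply] at h' ⊢
      calc (x : G) * (g * n * g⁻¹) = g * (g⁻¹ * x * g * n) * g⁻¹ := by group
        _ = g * (n * (g⁻¹ * x * g)) * g⁻¹ := by rw [h']
        _ = g * n * g⁻¹ * x := by group
  rw [h]
  exact (Subgroup.index_map_equiv (Subgroup.centralizer ({n} : Set N))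
    (MulAut.conjNormal g : N ≃* N)).symm

variable {M : Ideal AlgInt}

omit [Fintype G] in
theorem sameBlock_cj (g : G) {θ φ : N → ℂ} (h : SameBlock M θ φ) :
    SameBlock M (cj N g θ) (cj N g φ) := by
  intro n
  rw [centralChar_cj, centralChar_cj]
  exact h _


omit [Fintype G] in
theorem sum_mul_cj [Fintype N] {a : G → ℂ} (ha : IsClassFunction G a) (g : G) (θ : N → ℂ) :
    ∑ n : N, a n * cj N g θ n = ∑ n : N, a n * θ n := by
  rw [← Equiv.sum_comp (MulAut.conjNormal g : N ≃* N).toEquiv (fun n : N => a n * θ n)]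
  apply Finset.sum_congr rfl
  intro n _
  rw [cj_apply]
  have h1 : ((MulAut.conjNormal g : N ≃* N).toEquiv n) = ⟨g * n * g⁻¹, hN.conj_mem n n.2 g⟩ :=
    Subtype.ext (MulAut.conjNormal_apply g n)
  rw [h1]
  simp only
  rw [ha]

/-- If `χ` lies over `θ`, the central characters agree on `G`-invariant elements of `Z(ℂN)`. -/
theorem omega_restrict_of_over [Fintype N] {χ : G → ℂ} (hχ : IsIrrCharacter G χ) {θ : N → ℂ}
    (hθ : IsIrrCharacter N θ) (h : classInner (fun n : N => χ n) θ ≠ 0) {a : G → ℂ}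
    (ha : IsClassFunction G a) :
    (∑ n : N, a n * χ n) / χ 1 = omega θ (fun n : N => a n) := by
  classical
  have hc := clifford_theorem N hχ hθ h
  set e := classInner (fun n : N => χ n) θ with he
  set F := Finset.univ.image (fun g : G => cj N g θ) with hF
  have h1 : ∀ n : N, χ n = e * ∑ φ ∈ F, φ n := fun n => by
    have := congrFun hc n
    simpa [Finset.sum_apply] using this
  have h2 : ∑ n : N, a n * χ n = e * (F.card * ∑ n : N, a n * θ n) := by
    calc ∑ n : N, a n * χ n = ∑ n : N, ∑ φ ∈ F, e * (a n * φ n) := by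
          apply Finset.sum_congr rfl
          intro n _
          rw [h1 n, Finset.mul_sum, Finset.mul_sum]
          apply Finset.sum_congr rfl
          intro φ _
          ring
      _ = e * ∑ φ ∈ F, ∑ n : N, a n * φ n := by
          rw [Finset.sum_comm, Finset.mul_sum]
          apply Finset.sum_congr rfl
          intro φ _
          rw [Finset.mul_sum]
      _ = e * ∑ φ ∈ F, ∑ n : N, a n * θ n := by
          congr 1
          apply Finset.sum_congr rfl
          intro φ hφ
          obtain ⟨g, -, rfl⟩ := Finset.mem_image.mp hφ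
          exact sum_mul_cj N ha g θ
      _ = _ := by rw [Finset.sum_const, nsmul_eq_mul]
  have h3 : χ 1 = e * (F.card * θ 1) := by
    have h4 := h1 1
    rw [Subgroup.coe_one] at h4
    rw [h4]
    congr 1
    rw [← nsmul_eq_mul, ← Finset.sum_const]
    apply Finset.sum_congr rfl
    intro φ hφ
    obtain ⟨g, -, rfl⟩ := Finset.mem_image.mp hφ
    exact cj_apply_one N g θ
  have hF0 : (F.card : ℂ) ≠ 0 := by
    have : F.Nonempty := ⟨cj N 1 θ, Finset.mem_image.mpr ⟨1, Finset.mem_univ _, rfl⟩⟩
    exact_mod_cast this.card_pos.ne'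
  unfold omega
  rw [h2, h3, ← mul_assoc, ← mul_assoc, mul_div_mul_left _ _ (mul_ne_zero h hF0)]

omit hN in
theorem inducedCentralChar_eq_omega [Fintype N] (θ : N → ℂ) (g : G) :
    inducedCentralChar N θ g = omega θ (fun n : N => classInd g n) := by
  classical
  unfold inducedCentralChar omega classInd
  rw [finsum_mem_def, finsum_eq_sum_of_fintype, Finset.sum_div]
  apply Finset.sum_congr rfl
  intro n _
  by_cases hn : IsConj g (n : G)
  · rw [Set.indicator_of_mem (by exact hn)]
    simp only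
    rw [if_pos hn, one_mul]
  · rw [Set.indicator_of_notMem (by exact hn)]
    simp only
    rw [if_neg hn, zero_mul, zero_div]

omit hN in
theorem eq_sum_classInd [Fintype (ConjClasses G)] {a : G → ℂ} (ha : IsClassFunction G a) (x : G) :
    a x = ∑ C : ConjClasses G, a (Quotient.out C) * classInd (Quotient.out C) x := by
  classical
  rw [Finset.sum_eq_single (ConjClasses.mk x)]
  · have h1 : IsConj (Quotient.out (ConjClasses.mk x)) x := by
      rw [← ConjClasses.mk_eq_mk_iff_isConj]
      exact Quotient.out_eq _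
    unfold classInd
    rw [if_pos h1, mul_one]
    exact ((isClassFunction_iff_isConj.mp ha) _ _ h1).symm
  · intro C _ hC
    unfold classInd
    rw [if_neg, mul_zero]
    intro h1
    apply hC
    rw [← ConjClasses.mk_eq_mk_iff_isConj] at h1
    rw [← h1]
    exact (Quotient.out_eq C).symm
  · intro h; exact absurd (Finset.mem_univ _) h

omit hN in
/-- expansion of `ω_θ` on (the restriction to `N` of) a class function of `G` -/
theorem omega_restrict_eq_sum [Fintype N] [Fintype (ConjClasses G)] (θ : N → ℂ) {a : G → ℂ}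
    (ha : IsClassFunction G a) :
    omega θ (fun n : N => a n) =
      ∑ C : ConjClasses G, a (Quotient.out C) * inducedCentralChar N θ (Quotient.out C) := by
  have h1 : (fun n : N => a n) =
      ∑ C : ConjClasses G, a (Quotient.out C) • (fun n : N => classInd (Quotient.out C) (n : G)) := by
    funext n
    rw [eq_sum_classInd ha, Finset.sum_apply]
    rfl
  rw [h1, omega_sum]
  apply Finset.sum_congr rfl
  intro C _
  rw [omega_smul, inducedCentralChar_eq_omega]


omit hN in
theorem sum_eq_sum_subgroup [Fintype N] (F : G → ℂ) (hF : ∀ g, g ∉ N → F g = 0) :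
    ∑ g : G, F g = ∑ n : N, F n := by
  classical
  rw [← Finset.sum_subtype (Finset.univ.filter (· ∈ N)) (by simp) F]
  symm
  apply Finset.sum_subset (Finset.filter_subset _ _)
  intro x _ hx
  apply hF
  simpa using hx

omit hN in
theorem omega_eq_of_support [Fintype N] (χ : G → ℂ) {a : G → ℂ} (ha : ∀ g, g ∉ N → a g = 0) :
    omega χ a = (∑ n : N, a n * χ n) / χ 1 := by
  unfold omega
  rw [sum_eq_sum_subgroup N (fun g => a g * χ g) (fun g hg => by rw [ha g hg, zero_mul])]

theorem classInd_eq_zero_of_not_mem (n : N) {g : G} (hg : g ∉ N) : classInd (n : G) g = 0 := by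
  classical
  unfold classInd
  rw [if_neg]
  intro h
  obtain ⟨c, hc⟩ := isConj_iff.mp h
  apply hg
  rw [← hc]
  exact hN.conj_mem n n.2 c

/-- **S0963, forward direction.** -/
theorem centralChar_eq_inducedCentralChar_of_over [Fintype N] {χ : G → ℂ} (hχ : IsIrrCharacter G χ)
    {θ : N → ℂ} (hθ : IsIrrCharacter N θ) (h : classInner (fun n : N => χ n) θ ≠ 0) (n : N) :
    centralChar χ (n : G) = inducedCentralChar N θ (n : G) := by
  rw [← omega_classInd (IsCharacter.isClassFunction (IsIrrCharacter.isCharacter hχ)),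
    omega_eq_of_support N χ (fun g hg => classInd_eq_zero_of_not_mem N n hg),
    omega_restrict_of_over N hχ hθ h (classInd_isClassFunction _), inducedCentralChar_eq_omega]

omit hN in
/-- comparison of `ω_χ` and `ω_θ` on class functions of `G` supported on `N`. -/
theorem omega_sub_omega_restrict [Fintype N] [Fintype (ConjClasses G)] {χ : G → ℂ}
    (hχ : IsClassFunction G χ) (θ : N → ℂ) {a : G → ℂ} (ha : IsClassFunction G a) :
    omega χ a - omega θ (fun n : N => a n) = ∑ C : ConjClasses G, a (Quotient.out C) *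
      (centralChar χ (Quotient.out C) - inducedCentralChar N θ (Quotient.out C)) := by
  rw [omega_eq_sum_conjClasses hχ ha, omega_restrict_eq_sum N θ ha, ← Finset.sum_sub_distrib]
  apply Finset.sum_congr rfl
  intro C _
  ring

omit hN in
theorem memLocalIdeal_omega_sub_restrict [Fintype N] (hM : M.IsPrime) {χ : G → ℂ}
    (hχ : IsClassFunction G χ) (θ : N → ℂ)
    (h : ∀ n : N, MemLocalIdeal M (centralChar χ (n : G) - inducedCentralChar N θ (n : G)))
    {a : G → ℂ} (ha : IsClassFunction G a) (ha' : ∀ g, MemLocalRing M (a g))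
    (ha0 : ∀ g, g ∉ N → a g = 0) :
    MemLocalIdeal M (omega χ a - omega θ (fun n : N => a n)) := by
  classical
  rw [omega_sub_omega_restrict N hχ θ ha]
  apply MemLocalIdeal.sum hM
  intro C _
  by_cases hC : Quotient.out C ∈ N
  · exact MemLocalIdeal.mul_left hM (ha' _) (h ⟨_, hC⟩)
  · rw [ha0 _ hC, zero_mul]; exact memLocalIdeal_zero hM

omit hN in
theorem memLocalIdeal_omega_restrict_sub [Fintype N] (hM : M.IsPrime) (θ θ' : N → ℂ)
    (h : ∀ n : N, MemLocalIdeal M (inducedCentralChar N θ (n : G) - inducedCentralChar N θ' (n : G)))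
    {a : G → ℂ} (ha : IsClassFunction G a) (ha' : ∀ g, MemLocalRing M (a g))
    (ha0 : ∀ g, g ∉ N → a g = 0) :
    MemLocalIdeal M (omega θ (fun n : N => a n) - omega θ' (fun n : N => a n)) := by
  classical
  rw [omega_restrict_eq_sum N θ ha, omega_restrict_eq_sum N θ' ha, ← Finset.sum_sub_distrib]
  apply MemLocalIdeal.sum hM
  intro C _
  rw [← mul_sub]
  by_cases hC : Quotient.out C ∈ N
  · exact MemLocalIdeal.mul_left hM (ha' _) (h ⟨_, hC⟩)
  · rw [ha0 _ hC, zero_mul]; exact memLocalIdeal_zero hM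

/-- the union of the `G`-conjugates of a set of irreducible characters of `N` -/
def conjUnion (b : Set (IrrCharacter N)) : Set (IrrCharacter N) := {φ | ∃ g : G, cjIrr N g φ ∈ b}

theorem cjIrr_cjIrr (g h : G) (φ : IrrCharacter N) :
    cjIrr N g (cjIrr N h φ) = cjIrr N (h * g) φ := Subtype.ext (cj_cj N g h φ)

theorem cjIrr_mem_conjUnion_iff (b : Set (IrrCharacter N)) (h : G) (φ : IrrCharacter N) :
    cjIrr N h φ ∈ conjUnion N b ↔ φ ∈ conjUnion N b := by
  constructor
  · rintro ⟨g, hg⟩
    rw [cjIrr_cjIrr] at hg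
    exact ⟨_, hg⟩
  · rintro ⟨g, hg⟩
    refine ⟨h⁻¹ * g, ?_⟩
    rw [cjIrr_cjIrr, mul_inv_cancel_left]
    exact hg

theorem conjUnion_closed (hM : M.IsPrime) {b : Set (IrrCharacter N)} (hb : IsPBlock M b) :
    ∀ χ ∈ conjUnion N b, blockOf M (χ : N → ℂ) ⊆ conjUnion N b := by
  rintro χ ⟨g, hg⟩ ψ hψ
  exact ⟨g, IsPBlock.mem_of_sameBlock hM hb hg (sameBlock_cj N g hψ)⟩

theorem blockCoeff_conjUnion_conj [Fintype N] (b : Set (IrrCharacter N)) (h : G) (n : N) :
    blockCoeff (conjUnion N b) (⟨h * n * h⁻¹, hN.conj_mem n n.2 h⟩ : N) =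
      blockCoeff (conjUnion N b) n := by
  classical
  rw [blockCoeff_eq_sum, blockCoeff_eq_sum]
  congr 1
  conv_rhs => rw [← Equiv.sum_comp (cjIrr N h)]
  apply Finset.sum_congr rfl
  intro χ _
  rw [cjIrr_coe, cj_apply_one, cj_apply]
  simp only [cjIrr_mem_conjUnion_iff]

/-- the idempotent of the union of the conjugates of `b`, as a class function of `G` -/
theorem extend_blockCoeff_conjUnion_isClassFunction [Fintype N] (b : Set (IrrCharacter N)) :
    IsClassFunction G (extendByZero N (blockCoeff (conjUnion N b))) := by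
  intro g h
  by_cases hg : g ∈ N
  · rw [extendByZero_mem N _ hg, extendByZero_mem N _ (hN.conj_mem g hg h)]
    exact blockCoeff_conjUnion_conj N b h ⟨g, hg⟩
  · rw [extendByZero_not_mem N _ hg, extendByZero_not_mem]
    intro h1
    apply hg
    have := hN.conj_mem _ h1 h⁻¹
    simpa [mul_assoc] using this

/-- **Key lemma.** If the induced central characters of `θ` and `θ'` are congruent on `N`, then `θ`
is `G`-conjugate to a member of the block of `θ'`. -/
theorem exists_cjIrr_mem_of_congr [Fintype N] (hM : M.IsPrime) {b : Set (IrrCharacter N)}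
    (hb : IsPBlock M b) (θ θ' : IrrCharacter N) (hθ' : θ' ∈ b)
    (h : ∀ n : N, MemLocalIdeal M (inducedCentralChar N (θ : N → ℂ) (n : G) -
      inducedCentralChar N (θ' : N → ℂ) (n : G))) :
    ∃ g : G, cjIrr N g θ ∈ b := by
  classical
  by_contra hcon
  have hθA : θ ∉ conjUnion N b := hcon
  have hθ'A : θ' ∈ conjUnion N b := ⟨1, by
    have : cjIrr N 1 θ' = θ' := Subtype.ext (cj_one N _)
    rw [this]; exact hθ'⟩
  have h1 := memLocalIdeal_omega_restrict_sub N hM (θ : N → ℂ) (θ' : N → ℂ) h
    (extend_blockCoeff_conjUnion_isClassFunction N b)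
    (fun g => by
      by_cases hg : g ∈ N
      · rw [extendByZero_mem N _ hg]
        exact memLocalRing_blockCoeff_of_closed hM (conjUnion_closed N hM hb) _
      · rw [extendByZero_not_mem N _ hg]; exact memLocalRing_zero hM)
    (fun g hg => extendByZero_not_mem N _ hg)
  have h2 : (fun n : N => extendByZero N (blockCoeff (conjUnion N b)) (n : G)) =
      blockCoeff (conjUnion N b) := by
    funext n; exact extendByZero_coe N _ n
  rw [h2, omega_blockCoeff, omega_blockCoeff, if_neg hθA, if_pos hθ'A, zero_sub] at h1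
  exact not_memLocalIdeal_one hM (by simpa using MemLocalIdeal.neg h1)


omit hN in
theorem omega_restrict_eq_of_eq [Fintype N] (θ θ' : N → ℂ)
    (h : ∀ n : N, inducedCentralChar N θ (n : G) = inducedCentralChar N θ' (n : G))
    {a : G → ℂ} (ha : IsClassFunction G a) (ha0 : ∀ g, g ∉ N → a g = 0) :
    omega θ (fun n : N => a n) = omega θ' (fun n : N => a n) := by
  classical
  rw [omega_restrict_eq_sum N θ ha, omega_restrict_eq_sum N θ' ha]
  apply Finset.sum_congr rfl
  intro C _
  by_cases hC : Quotient.out C ∈ N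
  · rw [h ⟨_, hC⟩]
  · rw [ha0 _ hC, zero_mul, zero_mul]

/-- If the induced central characters of `θ` and `θ'` agree on `N`, then `θ` and `θ'` are
`G`-conjugate. -/
theorem exists_cjIrr_eq_of_eq [Fintype N] (θ θ' : IrrCharacter N)
    (h : ∀ n : N, inducedCentralChar N (θ : N → ℂ) (n : G) =
      inducedCentralChar N (θ' : N → ℂ) (n : G)) :
    ∃ g : G, cjIrr N g θ = θ' := by
  classical
  by_contra hcon
  have hθA : θ ∉ conjUnion N {θ'} := hcon
  have hθ'A : θ' ∈ conjUnion N {θ'} := ⟨1, by
    have : cjIrr N 1 θ' = θ' := Subtype.ext (cj_one N _)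
    rw [this]; rfl⟩
  have h1 := omega_restrict_eq_of_eq N (θ : N → ℂ) (θ' : N → ℂ) h
    (extend_blockCoeff_conjUnion_isClassFunction N {θ'})
    (fun g hg => extendByZero_not_mem N _ hg)
  have h2 : (fun n : N => extendByZero N (blockCoeff (conjUnion N {θ'})) (n : G)) =
      blockCoeff (conjUnion N {θ'}) := by
    funext n; exact extendByZero_coe N _ n
  rw [h2, omega_blockCoeff, omega_blockCoeff, if_neg hθA, if_pos hθ'A] at h1
  exact zero_ne_one h1

/-- being a constituent of `χ_N` is invariant under conjugation -/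
theorem over_cjIrr_iff [Fintype N] (χ : IrrCharacter G) (g : G) (θ : IrrCharacter N) :
    classInner (fun n : N => (χ : G → ℂ) n) (cjIrr N g θ : N → ℂ) ≠ 0 ↔
      classInner (fun n : N => (χ : G → ℂ) n) (θ : N → ℂ) ≠ 0 := by
  rw [cjIrr_coe, classInner_restrict_cj N g (irr_isClassFunction χ)]

/-- **S0963.** -/
theorem over_iff_centralChar_eq [Fintype N] (χ : IrrCharacter G) (θ : IrrCharacter N) :
    classInner (fun n : N => (χ : G → ℂ) n) (θ : N → ℂ) ≠ 0 ↔
      ∀ n : N, centralChar (χ : G → ℂ) (n : G) = inducedCentralChar N (θ : N → ℂ) (n : G) := by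
  constructor
  · intro h n
    exact centralChar_eq_inducedCentralChar_of_over N χ.2 θ.2 h n
  · intro h
    obtain ⟨ψ, hψ⟩ := Cfsg.Agent.Lib.Helper80.exists_constituent_restrict χ N
    obtain ⟨g, hg⟩ := exists_cjIrr_eq_of_eq N θ ψ (fun n => by
      rw [← h n, centralChar_eq_inducedCentralChar_of_over N χ.2 ψ.2 hψ n])
    rw [← hg, over_cjIrr_iff] at hψ
    exact hψ


omit hN in
theorem memLocalRing_classInd (hM : M.IsPrime) (g x : G) : MemLocalRing M (classInd g x) := by
  classical
  unfold classInd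
  split_ifs
  · exact memLocalRing_one hM
  · exact memLocalRing_zero hM

omit hN in
/-- induced central characters of characters in the same block of `N` are congruent -/
theorem memLocalIdeal_inducedCentralChar_sub [Fintype N] (hM : M.IsPrime) {θ θ' : IrrCharacter N}
    (h : SameBlock M (θ : N → ℂ) (θ' : N → ℂ)) (g : G) :
    MemLocalIdeal M (inducedCentralChar N (θ : N → ℂ) g - inducedCentralChar N (θ' : N → ℂ) g) := by
  rw [inducedCentralChar_eq_omega, inducedCentralChar_eq_omega]
  exact memLocalIdeal_omega_sub hM h (fun m k => classInd_isClassFunction g (m : G) (k : G))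
    (fun m => memLocalRing_classInd hM g m)

/-- `B` covers `b`. -/
def Covers [Fintype N] (B : Set (IrrCharacter G)) (b : Set (IrrCharacter N)) : Prop :=
  ∃ χ ∈ B, ∃ θ ∈ b, classInner (fun n : N => (χ : G → ℂ) n) (θ : N → ℂ) ≠ 0

theorem Covers.memLocalIdeal [Fintype N] (hM : M.IsPrime) {B : Set (IrrCharacter G)}
    (hB : IsPBlock M B) {b : Set (IrrCharacter N)} (hb : IsPBlock M b) (h : Covers N B b) :
    ∀ χ ∈ B, ∀ θ ∈ b, ∀ n : N, MemLocalIdeal M (centralChar (χ : G → ℂ) (n : G) -
      inducedCentralChar N (θ : N → ℂ) (n : G)) := by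
  obtain ⟨χ₀, hχ₀, θ₀, hθ₀, h0⟩ := h
  intro χ hχ θ hθ n
  have h1 := IsPBlock.sameBlock hM hB hχ hχ₀ (n : G)
  have h2 := memLocalIdeal_inducedCentralChar_sub N hM (IsPBlock.sameBlock hM hb hθ₀ hθ) (n : G)
  have h3 := centralChar_eq_inducedCentralChar_of_over N χ₀.2 θ₀.2 h0 n
  have h4 := MemLocalIdeal.add hM h1 h2
  rw [h3] at h4
  convert h4 using 1
  ring

/-- **S0964.** -/
theorem exists_cjIrr_mem_of_covers [Fintype N] (hM : M.IsPrime) {B : Set (IrrCharacter G)}
    (hB : IsPBlock M B) {b : Set (IrrCharacter N)} (hb : IsPBlock M b)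
    (h : ∀ χ ∈ B, ∀ θ ∈ b, ∀ n : N, MemLocalIdeal M (centralChar (χ : G → ℂ) (n : G) -
      inducedCentralChar N (θ : N → ℂ) (n : G)))
    {χ' : IrrCharacter G} (hχ' : χ' ∈ B) {ψ : IrrCharacter N}
    (hψ : classInner (fun n : N => (χ' : G → ℂ) n) (ψ : N → ℂ) ≠ 0) :
    ∃ g : G, cjIrr N g ψ ∈ b := by
  obtain ⟨θ, hθ⟩ := IsPBlock.nonempty hM hb
  apply exists_cjIrr_mem_of_congr N hM hb ψ θ hθ
  intro n
  rw [← centralChar_eq_inducedCentralChar_of_over N χ'.2 ψ.2 hψ n]
  exact h χ' hχ' θ hθ n

/-- **S0965.** -/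
theorem covers_iff [Fintype N] (hM : M.IsPrime) {B : Set (IrrCharacter G)}
    (hB : IsPBlock M B) {b : Set (IrrCharacter N)} (hb : IsPBlock M b) :
    Covers N B b ↔ ∀ χ ∈ B, ∀ θ ∈ b, ∀ n : N, MemLocalIdeal M (centralChar (χ : G → ℂ) (n : G) -
      inducedCentralChar N (θ : N → ℂ) (n : G)) := by
  refine ⟨Covers.memLocalIdeal N hM hB hb, fun h => ?_⟩
  obtain ⟨χ, hχ⟩ := IsPBlock.nonempty hM hB
  obtain ⟨ψ, hψ⟩ := Cfsg.Agent.Lib.Helper80.exists_constituent_restrict χ N
  obtain ⟨g, hg⟩ := exists_cjIrr_mem_of_covers N hM hB hb h hχ hψ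
  exact ⟨χ, hχ, _, hg, (over_cjIrr_iff N χ g ψ).mpr hψ⟩

end normal

end Cfsg.Agent.Lib.Helper35
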