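import Mathlib
import Cfsg.Prelude.Def_Blocks
import Cfsg.Agent.Lib.Helper35.BlockNormal
import Cfsg.Agent.Lib.Helper75.RegularBlock
import Cfsg.Agent.Lib.Helper78.DefectZero
import Cfsg.Agent.Lib.Helper80.Quot
import Cfsg.Agent.Lib.Helper15.Gallagher

/-!
# Blocks and normal subgroups, part 2: `p`-power index, normal `p'`-subgroups
-/

set_option autoImplicit false

namespace Cfsg.Agent.Lib.Helper35

open Cfsg Cfsg.Agent.Lib.Helper15 Cfsg.Agent.Lib.Helper78 Cfsg.Agent.Lib.Helper74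
  Cfsg.Agent.Lib.Helper75
open scoped ComplexConjugate

variable {G : Type*} [Group G] [Fintype G] (N : Subgroup G) [hN : N.Normal]
variable {M : Ideal AlgInt} {p : ℕ}

/-- every irreducible character of a subgroup lies under some irreducible character -/
theorem exists_over (H : Subgroup G) [Fintype H] (θ : IrrCharacter H) :
    ∃ χ : IrrCharacter G, classInner (fun n : H => (χ : G → ℂ) n) (θ : H → ℂ) ≠ 0 := by
  have h1 := Cfsg.Agent.Lib.Helper3.isCharacter_indFun H (IrrCharacter.isCharacter θ)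
  have h2 : indFun H (θ : H → ℂ) ≠ 0 := by
    intro h
    have h3 := Cfsg.Agent.Lib.Helper3.indFun_one H (θ : H → ℂ)
    rw [h] at h3
    have h4 : (H.index : ℂ) ≠ 0 := by exact_mod_cast Subgroup.index_ne_zero_of_finite
    exact mul_ne_zero h4 (irr_one_ne_zero θ) h3.symm
  obtain ⟨χ, hχ⟩ := Cfsg.Agent.Lib.Helper80.exists_constituent h1 h2
  exact ⟨χ, (Cfsg.Agent.Lib.Helper80.classInner_indFun_ne_zero_iff H _
    (irr_isClassFunction χ)).mp hχ⟩

omit [Fintype G] in
theorem mem_of_regular_of_index (hp : p.Prime) (hidx : ∃ k : ℕ, N.index = p ^ k) {g : G}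
    (hg : ¬ p ∣ orderOf g) : g ∈ N := by
  obtain ⟨k, hk⟩ := hidx
  have h1 : orderOf (QuotientGroup.mk' N g) ∣ orderOf g := orderOf_map_dvd _ g
  have h2 : orderOf (QuotientGroup.mk' N g) ∣ p ^ k := by
    rw [← hk, Subgroup.index_eq_card]
    exact orderOf_dvd_natCard _
  obtain ⟨m, -, hm⟩ := (Nat.dvd_prime_pow hp).mp h2
  have hm0 : m = 0 := by
    by_contra h0
    apply hg
    refine dvd_trans ?_ h1
    rw [hm]
    exact dvd_pow_self p h0
  rw [hm0, pow_zero, orderOf_eq_one_iff] at hm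
  exact (QuotientGroup.eq_one_iff g).mp hm

/-- two blocks covering the same block of a normal subgroup of `p`-power index are equal -/
theorem eq_of_covers_of_index [Fintype N] (hM : IsPModular p M) (hidx : ∃ k : ℕ, N.index = p ^ k)
    {b : Set (IrrCharacter N)} (hb : IsPBlock M b) {B B' : Set (IrrCharacter G)}
    (hB : IsPBlock M B) (hB' : IsPBlock M B') (h : Covers N B b) (h' : Covers N B' b) : B = B' := by
  have hMp := pmod_isPrime hM
  obtain ⟨χ, hχ⟩ := IsPBlock.nonempty hMp hB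
  obtain ⟨χ', hχ'⟩ := IsPBlock.nonempty hMp hB'
  obtain ⟨θ, hθ⟩ := IsPBlock.nonempty hMp hb
  have hs : SameBlock M (χ : G → ℂ) (χ' : G → ℂ) := by
    apply sameBlock_of_regular hM
    intro g hg
    have hgN := mem_of_regular_of_index N (pmod_prime hM) hidx hg
    have h1 := Covers.memLocalIdeal N hMp hB hb h χ hχ θ hθ ⟨g, hgN⟩
    have h2 := Covers.memLocalIdeal N hMp hB' hb h' χ' hχ' θ hθ ⟨g, hgN⟩
    have h3 := MemLocalIdeal.sub hMp h1 h2
    convert h3 using 1
    ring
  exact IsPBlock.eq_of_mem_mem hMp hB hB' hχ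
    (by
      have := IsPBlock.mem_of_sameBlock hMp hB' hχ' (sameBlock_symm hs)
      exact this)

/-- **S0966.** -/
theorem existsUnique_covers_of_index [Fintype N] (hM : IsPModular p M)
    (hidx : ∃ k : ℕ, N.index = p ^ k) {b : Set (IrrCharacter N)} (hb : IsPBlock M b) :
    ∃! B : Set (IrrCharacter G), IsPBlock M B ∧ Covers N B b := by
  have hMp := pmod_isPrime hM
  obtain ⟨θ, hθ⟩ := IsPBlock.nonempty hMp hb
  obtain ⟨χ, hχ⟩ := exists_over N θ
  refine ⟨blockOf M (χ : G → ℂ), ⟨isPBlock_blockOf χ, χ, mem_blockOf_self hMp χ, θ, hθ, hχ⟩, ?_⟩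
  rintro B' ⟨hB', hc⟩
  exact eq_of_covers_of_index N hM hidx hb hB' (isPBlock_blockOf χ) hc
    ⟨χ, mem_blockOf_self hMp χ, θ, hθ, hχ⟩

/-- blocks of a `p'`-group are singletons -/
theorem blockOf_eq_singleton_of_not_dvd {X : Type*} [Group X] [Fintype X] (hM : IsPModular p M)
    (hX : ¬ p ∣ Nat.card X) (θ : IrrCharacter X) : blockOf M (θ : X → ℂ) = {θ} := by
  apply blockOf_eq_singleton_of_defect_zero hM
  intro h
  exact hX (h.trans (Nat.div_dvd_of_dvd (irr_charDegree_dvd_card θ)))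

/-- **S0954.** -/
theorem sameBlock_iff_of_normal_complement [Fintype N] (hM : IsPModular p M)
    (hNp : ¬ p ∣ Nat.card N) (hidx : ∃ k : ℕ, N.index = p ^ k) (χ ψ : IrrCharacter G) :
    SameBlock M (χ : G → ℂ) (ψ : G → ℂ) ↔ ∃ θ : IrrCharacter N,
      classInner (fun n : N => (χ : G → ℂ) n) (θ : N → ℂ) ≠ 0 ∧
      classInner (fun n : N => (ψ : G → ℂ) n) (θ : N → ℂ) ≠ 0 := by
  have hMp := pmod_isPrime hM
  constructor
  · intro h
    obtain ⟨θ, hθ⟩ := Cfsg.Agent.Lib.Helper80.exists_constituent_restrict χ N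
    obtain ⟨ψ', hψ'⟩ := Cfsg.Agent.Lib.Helper80.exists_constituent_restrict ψ N
    refine ⟨θ, hθ, ?_⟩
    have hc : Covers N (blockOf M (χ : G → ℂ)) (blockOf M (θ : N → ℂ)) :=
      ⟨χ, mem_blockOf_self hMp χ, θ, mem_blockOf_self hMp θ, hθ⟩
    obtain ⟨g, hg⟩ := exists_cjIrr_mem_of_covers N hMp (isPBlock_blockOf χ) (isPBlock_blockOf θ)
      (Covers.memLocalIdeal N hMp (isPBlock_blockOf χ) (isPBlock_blockOf θ) hc)
      (χ' := ψ) h hψ'
    rw [blockOf_eq_singleton_of_not_dvd hM hNp θ, Set.mem_singleton_iff] at hg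
    rw [← hg, over_cjIrr_iff]
    exact hψ'
  · rintro ⟨θ, h1, h2⟩
    have := eq_of_covers_of_index N hM hidx (isPBlock_blockOf θ) (isPBlock_blockOf χ)
      (isPBlock_blockOf ψ) ⟨χ, mem_blockOf_self hMp χ, θ, mem_blockOf_self hMp θ, h1⟩
      ⟨ψ, mem_blockOf_self hMp ψ, θ, mem_blockOf_self hMp θ, h2⟩
    have h3 : ψ ∈ blockOf M (χ : G → ℂ) := by rw [this]; exact mem_blockOf_self hMp ψ
    exact h3


theorem omega_inflate [Fintype (G ⧸ N)] (χ : G ⧸ N → ℂ) (a : G ⧸ N → ℂ) :
    omega (fun g : G => χ (g : G ⧸ N)) (fun g : G => a (g : G ⧸ N)) =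
      (Nat.card N : ℂ) * omega χ a := by
  unfold omega
  rw [Cfsg.Agent.Lib.Helper3.sum_eq_card_nsmul_sum_quot N
    (fun g : G => a (g : G ⧸ N) * χ (g : G ⧸ N))
    (by intro g h hh; simp only [QuotientGroup.mk_mul_of_mem g hh])]
  simp only [QuotientGroup.out_eq', nsmul_eq_mul, QuotientGroup.mk_one]
  ring

/-- the idempotent `|N|⁻¹ ∑ n` -/
noncomputable def avgFun : G → ℂ := by
  classical
  exact fun g => if g ∈ N then (Nat.card N : ℂ)⁻¹ else 0

theorem avgFun_isClassFunction : IsClassFunction G (avgFun N) := by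
  classical
  intro g h
  unfold avgFun
  have : h * g * h⁻¹ ∈ N ↔ g ∈ N := by
    constructor
    · intro h1
      have := hN.conj_mem _ h1 h⁻¹
      simpa [mul_assoc] using this
    · intro h1; exact hN.conj_mem g h1 h
  simp only [this]

omit hN in
theorem omega_avgFun [Fintype N] (β : G → ℂ) :
    omega β (avgFun N) = classInner (fun n : N => β n) (fun _ => 1) / β 1 := by
  classical
  rw [omega_eq_of_support N β (a := avgFun N) (fun g hg => by unfold avgFun; rw [if_neg hg])]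
  congr 1
  have h1 : ∀ n : N, avgFun N (n : G) * β n = (Nat.card N : ℂ)⁻¹ * β n := by
    intro n
    unfold avgFun
    rw [if_pos n.2]
  simp only [h1]
  rw [← Finset.mul_sum]
  unfold classInner
  simp

/-- **S0967, first half**: over a normal `p'`-subgroup `N`, a block containing a character with `N`
in its kernel consists of such characters. -/
theorem ker_of_sameBlock (hM : IsPModular p M) (hNp : ¬ p ∣ Nat.card N) {χ ψ : IrrCharacter G}
    (hχ : ∀ n : N, (χ : G → ℂ) n = (χ : G → ℂ) 1) (h : SameBlock M (χ : G → ℂ) (ψ : G → ℂ)) :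
    ∀ n : N, (ψ : G → ℂ) n = (ψ : G → ℂ) 1 := by
  classical
  have := Fintype.ofFinite N
  have hMp := pmod_isPrime hM
  have h1 := memLocalIdeal_omega_sub hMp h (avgFun_isClassFunction N) (fun g => by
    unfold avgFun
    split_ifs
    · exact memLocalRing_inv_natCast hM hNp
    · exact memLocalRing_zero hMp)
  rw [omega_avgFun, omega_avgFun] at h1
  have h2 : classInner (fun n : N => (χ : G → ℂ) n) (fun _ => 1) = (χ : G → ℂ) 1 := by
    unfold classInner
    simp only [hχ, map_one, mul_one, Finset.sum_const, Finset.card_univ, nsmul_eq_mul]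
    rw [← Nat.card_eq_fintype_card, ← mul_assoc, inv_mul_cancel₀, one_mul]
    exact_mod_cast Nat.card_pos.ne'
  rw [h2, div_self (irr_one_ne_zero χ)] at h1
  have h3 : classInner (fun n : N => (ψ : G → ℂ) n) (fun _ => 1) ≠ 0 := by
    intro h0
    rw [h0, zero_div, sub_zero] at h1
    exact not_memLocalIdeal_one hMp h1
  exact (restrict_eq_of_inner_one_ne_zero N ψ.2 h3).2

/-- **S0967, second half.** -/
theorem sameBlock_quotient_of_inflate [Fintype (G ⧸ N)] (hM : IsPModular p M)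
    (hNp : ¬ p ∣ Nat.card N) (χ ψ : IrrCharacter (G ⧸ N))
    (h : SameBlock M (fun g : G => (χ : G ⧸ N → ℂ) (g : G ⧸ N))
      (fun g : G => (ψ : G ⧸ N → ℂ) (g : G ⧸ N))) :
    SameBlock M (χ : G ⧸ N → ℂ) (ψ : G ⧸ N → ℂ) := by
  classical
  have hMp := pmod_isPrime hM
  intro x
  have h1 := memLocalIdeal_omega_sub hMp
    (χ := (Cfsg.Agent.Lib.Helper80.inflateEquiv N χ).1)
    (ψ := (Cfsg.Agent.Lib.Helper80.inflateEquiv N ψ).1) h
    (a := fun g : G => classInd x (g : G ⧸ N))
    (fun g k => classInd_isClassFunction x (g : G ⧸ N) (k : G ⧸ N))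
    (fun g => memLocalRing_classInd hMp x _)
  have h2 : ∀ η : IrrCharacter (G ⧸ N),
      omega ((Cfsg.Agent.Lib.Helper80.inflateEquiv N η).1 : G → ℂ)
        (fun g : G => classInd x (g : G ⧸ N)) = (Nat.card N : ℂ) * centralChar (η : G ⧸ N → ℂ) x := by
    intro η
    rw [← omega_classInd (irr_isClassFunction η), ← omega_inflate]
    rfl
  rw [h2, h2, ← mul_sub] at h1
  have h3 := MemLocalIdeal.mul_left hMp (memLocalRing_inv_natCast hM hNp) h1
  rwa [← mul_assoc, inv_mul_cancel₀ (by exact_mod_cast Nat.card_pos.ne'), one_mul] at h3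

end Cfsg.Agent.Lib.Helper35
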