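import Mathlib
import Cfsg.Prelude.Def_Blocks
import Cfsg.Agent.Lib.Helper35.BlockNormal2

/-!
# Blocks and normal `p`-subgroups
-/

set_option autoImplicit false

namespace Cfsg.Agent.Lib.Helper35

open Cfsg Cfsg.Agent.Lib.Helper15 Cfsg.Agent.Lib.Helper78 Cfsg.Agent.Lib.Helper74
open scoped ComplexConjugate

variable {G : Type*} [Group G] [Fintype G] (N : Subgroup G) [hN : N.Normal]
variable {M : Ideal AlgInt} {p : ℕ}

omit hN in
theorem blockCoeff_one_ne_zero {B : Set (IrrCharacter G)} (hB : B.Nonempty) :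
    blockCoeff B 1 ≠ 0 := by
  classical
  rw [blockCoeff_eq_sum]
  apply mul_ne_zero
  · exact inv_ne_zero (by exact_mod_cast Fintype.card_ne_zero)
  · have h1 : ∀ χ : IrrCharacter G, (if χ ∈ B then (1 : ℂ) else 0) *
        ((χ : G → ℂ) 1 * conj ((χ : G → ℂ) 1)) =
        ((if χ ∈ B then (charDegree (χ : G → ℂ)) ^ 2 else 0 : ℕ) : ℂ) := by
      intro χ
      rw [irr_conj_one, irr_one_eq]
      split_ifs <;> simp [sq]
    simp only [h1]
    rw [← Nat.cast_sum]
    obtain ⟨χ, hχ⟩ := hB
    have h2 : 0 < ∑ χ : IrrCharacter G, (if χ ∈ B then (charDegree (χ : G → ℂ)) ^ 2 else 0) := by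
      apply Finset.sum_pos'
      · intro i _; positivity
      · exact ⟨χ, Finset.mem_univ _, by rw [if_pos hχ]; exact pow_pos (irr_charDegree_pos χ) 2⟩
    exact_mod_cast h2.ne'

/-- every block contains a character with a given normal `p`-subgroup in its kernel -/
theorem exists_mem_block_ker (hM : IsPModular p M) (hNp : IsPGroup p N)
    {B : Set (IrrCharacter G)} (hB : IsPBlock M B) :
    ∃ χ ∈ B, ∀ n : N, (χ : G → ℂ) n = (χ : G → ℂ) 1 := by
  classical
  have := Fintype.ofFinite N
  have hMp := pmod_isPrime hM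
  haveI : Fact p.Prime := ⟨pmod_prime hM⟩
  by_contra hcon
  push Not at hcon
  have h0 : ∀ χ ∈ B, ∑ n : N, (χ : G → ℂ) n = 0 := by
    intro χ hχ
    rw [sum_restrict_eq N]
    by_contra h
    have h1 : classInner (fun n : N => (χ : G → ℂ) n) (fun _ => 1) ≠ 0 := by
      intro h2; apply h; rw [h2, mul_zero]
    obtain ⟨n, hn⟩ := hcon χ hχ
    exact hn ((restrict_eq_of_inner_one_ne_zero N χ.2 h1).2 n)
  have h1 : ∑ n : N, blockCoeff B (n : G) = 0 := by
    simp only [blockCoeff_eq_sum]
    rw [← Finset.mul_sum, Finset.sum_comm]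
    apply mul_eq_zero_of_right
    apply Finset.sum_eq_zero
    intro χ _
    by_cases hχ : χ ∈ B
    · rw [← Finset.mul_sum, ← Finset.mul_sum, ← map_sum, h0 χ hχ]; simp
    · simp [hχ]
  have h2 : ∑ n : N, blockCoeff B (n : G) = blockCoeff B 1 := by
    rw [Finset.sum_eq_single (1 : N)]
    · rfl
    · intro n _ hn
      apply blockCoeff_eq_zero_of_singular hM hB
      obtain ⟨k, hk⟩ := (IsPGroup.iff_orderOf.mp hNp) n
      rw [Subgroup.orderOf_coe, hk]
      apply dvd_pow_self
      rintro rfl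
      rw [pow_zero, orderOf_eq_one_iff] at hk
      exact hn hk
    · intro h; exact absurd (Finset.mem_univ _) h
  rw [h2] at h1
  exact blockCoeff_one_ne_zero (IsPBlock.nonempty hMp hB) h1

open Classical in
/-- push-forward of a function to the quotient (sum over the fibres) -/
noncomputable def pushFun (a : G → ℂ) : G ⧸ N → ℂ :=
  fun y => ∑ x ∈ Finset.univ.filter (fun x : G => (x : G ⧸ N) = y), a x

theorem omega_inflate_push [Fintype (G ⧸ N)] (χ : G ⧸ N → ℂ) (a : G → ℂ) :
    omega (fun g : G => χ (g : G ⧸ N)) a = omega χ (pushFun N a) := by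
  classical
  unfold omega
  congr 1
  rw [← Finset.sum_fiberwise Finset.univ (fun x : G => (x : G ⧸ N))]
  apply Finset.sum_congr rfl
  intro y _
  unfold pushFun
  rw [Finset.sum_mul]
  apply Finset.sum_congr rfl
  intro x hx
  simp only
  rw [(Finset.mem_filter.mp hx).2]

theorem pushFun_isClassFunction {a : G → ℂ} (ha : IsClassFunction G a) :
    IsClassFunction (G ⧸ N) (pushFun N a) := by
  classical
  intro y h
  obtain ⟨h₀, rfl⟩ := QuotientGroup.mk_surjective h
  unfold pushFun
  symm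
  apply Finset.sum_equiv (MulAut.conj h₀).toEquiv
  · intro x
    simp only [Finset.mem_filter, Finset.mem_univ, true_and, MulEquiv.toEquiv_eq_coe,
      MulEquiv.coe_toEquiv, MulAut.conj_apply, QuotientGroup.mk_mul, QuotientGroup.mk_inv]
    constructor
    · rintro rfl; rfl
    · intro h1
      have := congrArg (fun t => (h₀ : G ⧸ N)⁻¹ * t * (h₀ : G ⧸ N)) h1
      simpa [mul_assoc] using this
  · intro x _
    simp only [MulEquiv.toEquiv_eq_coe, MulEquiv.coe_toEquiv, MulAut.conj_apply]
    rw [ha]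


open Classical in
/-- `N` a normal `p`-subgroup, `g ∉ C_G(N)`: every fibre of the class of `g` over `G ⧸ N` has size
divisible by `p`. -/
theorem dvd_card_fibre (hp : p.Prime) (hNp : IsPGroup p N) {g : G}
    (hg : g ∉ Subgroup.centralizer (N : Set G)) (y : G ⧸ N) :
    p ∣ (Finset.univ.filter (fun x : G => (x : G ⧸ N) = y ∧ IsConj g x)).card := by
  haveI : Fact p.Prime := ⟨hp⟩
  let S := {x : G // (x : G ⧸ N) = y ∧ IsConj g x}
  letI : MulAction N S :=
    { smul := fun u x => ⟨u * x.1 * (u : G)⁻¹, by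
        rw [QuotientGroup.mk_mul, QuotientGroup.mk_mul, QuotientGroup.mk_inv,
          (QuotientGroup.eq_one_iff (u : G)).mpr u.2, x.2.1]
        simp, x.2.2.trans (isConj_iff.mpr ⟨u, rfl⟩)⟩
      one_smul := fun x => Subtype.ext (by
        show ((1 : N) : G) * x.1 * ((1 : N) : G)⁻¹ = x.1
        simp)
      mul_smul := fun u v x => Subtype.ext (by
        show ((u * v : N) : G) * x.1 * ((u * v : N) : G)⁻¹ = u * (v * x.1 * (v : G)⁻¹) * (u : G)⁻¹
        simp [mul_assoc]) }
  have h1 := hNp.card_modEq_card_fixedPoints S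
  have h2 : IsEmpty (MulAction.fixedPoints N S) := by
    constructor
    rintro ⟨x, hx⟩
    apply hg
    obtain ⟨c, hc⟩ := isConj_iff.mp x.2.2
    rw [Subgroup.mem_centralizer_iff]
    intro u hu
    have h3 := hx ⟨c * u * c⁻¹, hN.conj_mem u hu c⟩
    have h4 : (c * u * c⁻¹) * x.1 * (c * u * c⁻¹)⁻¹ = x.1 := congrArg Subtype.val h3
    rw [← hc] at h4
    have h5 : c * (u * g * u⁻¹) * c⁻¹ = c * g * c⁻¹ := by
      rw [← h4]; group
    have h6 : u * g * u⁻¹ = g := by simpa using h5
    calc u * g = (u * g * u⁻¹) * u := by group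
      _ = g * u := by rw [h6]
  rw [@Nat.card_of_isEmpty _ h2] at h1
  have h3 : Nat.card S = (Finset.univ.filter (fun x : G => (x : G ⧸ N) = y ∧ IsConj g x)).card := by
    rw [Nat.card_eq_fintype_card, Fintype.card_subtype]
  rw [← h3]
  exact (Nat.modEq_zero_iff_dvd).mp h1

omit hN in
theorem pushFun_classInd (g : G) (y : G ⧸ N) : by
    classical
    exact pushFun N (classInd g) y =
      ((Finset.univ.filter (fun x : G => (x : G ⧸ N) = y ∧ IsConj g x)).card : ℂ) := by
  classical
  unfold pushFun classInd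
  rw [Finset.sum_boole, Finset.filter_filter]

/-- the central character of a character with the normal `p`-subgroup `N` in its kernel vanishes
modulo the local ideal outside `C_G(N)`. -/
theorem memLocalIdeal_centralChar_of_ker (hM : IsPModular p M) (hNp : IsPGroup p N)
    (χ : IrrCharacter G) (hχ : ∀ n : N, (χ : G → ℂ) n = (χ : G → ℂ) 1) {g : G}
    (hg : g ∉ Subgroup.centralizer (N : Set G)) : MemLocalIdeal M (centralChar (χ : G → ℂ) g) := by
  classical
  have := Fintype.ofFinite (G ⧸ N)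
  have hMp := pmod_isPrime hM
  obtain ⟨ψ, hψ⟩ := (Cfsg.Agent.Lib.Helper80.inflateEquiv N).surjective
    ⟨χ, fun n hn => hχ ⟨n, hn⟩⟩
  have h2 : (χ : G → ℂ) = fun g : G => (ψ : G ⧸ N → ℂ) (g : G ⧸ N) := by
    have := congrArg (fun t => (t.1 : G → ℂ)) hψ
    exact this.symm
  rw [← omega_classInd (irr_isClassFunction χ), h2, omega_inflate_push]
  apply memLocalIdeal_omega hMp ψ (pushFun_isClassFunction N (classInd_isClassFunction g))
  intro y
  rw [pushFun_classInd]
  exact (memLocalIdeal_natCast_iff hM _).mpr (dvd_card_fibre N (pmod_prime hM) hNp hg y)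

/-- central characters vanish modulo the local ideal outside the centralizer of a normal
`p`-subgroup. -/
theorem memLocalIdeal_centralChar_of_not_mem_centralizer (hM : IsPModular p M)
    (hNp : IsPGroup p N) (χ : IrrCharacter G) {g : G}
    (hg : g ∉ Subgroup.centralizer (N : Set G)) : MemLocalIdeal M (centralChar (χ : G → ℂ) g) := by
  have hMp := pmod_isPrime hM
  obtain ⟨χ₀, hχ₀, hker⟩ := exists_mem_block_ker N hM hNp (isPBlock_blockOf (M := M) χ)
  have h1 := memLocalIdeal_centralChar_of_ker N hM hNp χ₀ hker hg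
  have h2 : SameBlock M (χ : G → ℂ) (χ₀ : G → ℂ) := hχ₀
  exact (MemLocalIdeal.congr hMp (h2 g)).mpr h1

omit [Fintype G] in
theorem inducedCentralChar_eq_zero_of_not_mem (θ : N → ℂ) {g : G} (hg : g ∉ N) :
    inducedCentralChar N θ g = 0 := by
  unfold inducedCentralChar
  apply finsum_mem_eq_zero_of_forall_eq_zero
  intro h hh
  exfalso
  obtain ⟨c, hc⟩ := isConj_iff.mp (show IsConj g (h : G) from hh)
  apply hg
  have := hN.conj_mem h h.2 c⁻¹
  rw [← hc] at this
  simpa [mul_assoc] using this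

/-- **S0971.** -/
theorem isInducedBlock_of_covers (Q : Subgroup G) [Q.Normal] (hM : IsPModular p M)
    (hQ : IsPGroup p Q) [Fintype ↥(Q ⊔ Subgroup.centralizer (Q : Set G))]
    {b : Set (IrrCharacter ↥(Q ⊔ Subgroup.centralizer (Q : Set G)))} (hb : IsPBlock M b)
    {B : Set (IrrCharacter G)} (hB : IsPBlock M B)
    (hc : Covers (Q ⊔ Subgroup.centralizer (Q : Set G)) B b) :
    IsInducedBlock M (Q ⊔ Subgroup.centralizer (Q : Set G)) b B := by
  have hMp := pmod_isPrime hM
  refine ⟨hb, hB, fun ξ hξ χ hχ g => ?_⟩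
  by_cases hg : g ∈ Q ⊔ Subgroup.centralizer (Q : Set G)
  · have h1 := Covers.memLocalIdeal _ hMp hB hb hc χ hχ ξ hξ ⟨g, hg⟩
    have h2 := MemLocalIdeal.neg h1
    rwa [neg_sub] at h2
  · rw [inducedCentralChar_eq_zero_of_not_mem _ _ hg, zero_sub]
    apply MemLocalIdeal.neg
    apply memLocalIdeal_centralChar_of_not_mem_centralizer Q hM hQ χ
    intro h
    exact hg (le_sup_right (a := Q) h)

end Cfsg.Agent.Lib.Helper35
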