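import Mathlib

/-!
# A pigeonhole lemma for group-graded sums

If all non-empty words of degree `1` in the `A t` are "small", then `(∑ t, A t) ^ |Γ|` is small.
-/

set_option autoImplicit false

namespace Cfsg.Agent.Lib.Helper35

theorem small_pow_card {𝒜 Γ : Type*} [Ring 𝒜] [Group Γ] [Fintype Γ] (A : Γ → 𝒜)
    (good small : 𝒜 → Prop)
    (g1 : good 1) (gmul : ∀ x y, good x → good y → good (x * y)) (gA : ∀ t, good (A t))
    (gS : good (∑ t, A t))
    (s0 : small 0) (sadd : ∀ x y, small x → small y → small (x + y))
    (sl : ∀ x z, small x → good z → small (z * x)) (sr : ∀ x z, small x → good z → small (x * z))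
    (H : ∀ l : List Γ, l ≠ [] → l.prod = 1 → small ((l.map A).prod)) :
    small ((∑ t, A t) ^ Fintype.card Γ) := by
  classical
  set P := ∑ t, A t with hP
  have gword : ∀ l : List Γ, good ((l.map A).prod) := by
    intro l
    induction l with
    | nil => simpa using g1
    | cons t l ih => simpa using gmul _ _ (gA t) ih
  have gpow : ∀ k : ℕ, good (P ^ k) := by
    intro k
    induction k with
    | zero => simpa using g1
    | succ k ih => rw [pow_succ]; exact gmul _ _ ih gS
  have ssum : ∀ (s : Finset Γ) (f : Γ → 𝒜), (∀ t ∈ s, small (f t)) → small (∑ t ∈ s, f t) := by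
    intro s f hf
    exact Finset.sum_induction f small sadd s0 hf
  have claim : ∀ (k : ℕ) (l : List Γ), (l.inits.map List.prod).Nodup →
      l.length + k = Fintype.card Γ → small ((l.map A).prod * P ^ k) := by
    intro k
    induction k with
    | zero =>
      intro l hnd hlen
      exfalso
      have h1 := hnd.length_le_card
      simp at h1
      omega
    | succ k ih =>
      intro l hnd hlen
      have h1 : (l.map A).prod * P ^ (k + 1) = ∑ t, ((l ++ [t]).map A).prod * P ^ k := by
        rw [pow_succ', ← mul_assoc, hP, Finset.mul_sum, Finset.sum_mul]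
        apply Finset.sum_congr rfl
        intro t _
        simp
      rw [h1]
      apply ssum
      intro t _
      have hin : ((l ++ [t]).inits.map List.prod) = l.inits.map List.prod ++ [(l ++ [t]).prod] := by
        rw [List.inits_append]
        simp
      by_cases hmem : (l ++ [t]).prod ∈ l.inits.map List.prod
      · obtain ⟨l₁, hl₁, hprod⟩ := List.mem_map.mp hmem
        obtain ⟨l₂, rfl⟩ := (List.mem_inits _ _).mp hl₁
        have h2 : (l₂ ++ [t]).prod = 1 := by
          rw [List.append_assoc, List.prod_append] at hprod
          exact (mul_eq_left.mp hprod.symm)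
        have h3 := H (l₂ ++ [t]) (by simp) h2
        have h4 : ((l₁ ++ l₂ ++ [t]).map A).prod = (l₁.map A).prod * ((l₂ ++ [t]).map A).prod := by
          rw [List.append_assoc, List.map_append, List.prod_append]
        rw [h4]
        exact sr _ _ (sl _ _ h3 (gword l₁)) (gpow k)
      · apply ih
        · rw [hin]
          exact List.Nodup.append hnd (List.nodup_singleton _) (by
            intro a ha hb
            rw [List.mem_singleton] at hb
            exact hmem (hb ▸ ha))
        · simp; omega
  have := claim (Fintype.card Γ) [] (by simp) (by simp)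
  simpa using this

end Cfsg.Agent.Lib.Helper35
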