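import Mathlib
import Cfsg.Prelude.Def_Blocks
import Cfsg.Agent.Lib.Helper35.BlockNormal3
import Cfsg.Agent.Lib.Helper35.Pigeon
import Cfsg.Agent.Lib.Helper77.GroupAlg

/-!
# If `B` covers `b`, every member of `b` lies under a member of `B`
-/

set_option autoImplicit false
set_option linter.unusedSectionVars false

namespace Cfsg.Agent.Lib.Helper35

open Cfsg Cfsg.Agent.Lib.Helper15 Cfsg.Agent.Lib.Helper78 Cfsg.Agent.Lib.Helper74
open Cfsg.Agent.Lib.Helper77 (ofFun coeff_ofFun coeff_mul_left coeff_mul_right ma_ext FixedBy SuppIn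
  fixedBy_iff_coeff)
open scoped ComplexConjugate
open MonoidAlgebra

section nakayama

variable {M : Ideal AlgInt}

theorem det_one_sub_ne_zero (hM : M.IsPrime) {ι : Type*} [Fintype ι] [DecidableEq ι]
    (Y : Matrix ι ι ℂ) (hY : ∀ i j, MemLocalIdeal M (Y i j)) : (1 - Y).det ≠ 0 := by
  have hR : ∀ i j, MemLocalRing M ((1 - Y) i j) := by
    intro i j
    rw [Matrix.sub_apply]
    apply MemLocalRing.sub hM _ (MemLocalIdeal.memLocalRing (hY i j))
    rw [Matrix.one_apply]
    split_ifs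
    · exact memLocalRing_one hM
    · exact memLocalRing_zero hM
  have h1 : ¬ MemLocalIdeal M ((1 - Y).det) := by
    rw [Matrix.det_apply, ← Finset.add_sum_erase _ _ (Finset.mem_univ (1 : Equiv.Perm ι))]
    intro hcon
    have hrest : MemLocalIdeal M (∑ σ ∈ Finset.univ.erase (1 : Equiv.Perm ι),
        Equiv.Perm.sign σ • ∏ i, (1 - Y) (σ i) i) := by
      apply MemLocalIdeal.sum hM
      intro σ hσ
      have hσ1 : σ ≠ 1 := (Finset.mem_erase.mp hσ).1
      obtain ⟨i, hi⟩ : ∃ i, σ i ≠ i := by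
        by_contra h
        push Not at h
        exact hσ1 (Equiv.ext h)
      have h2 : MemLocalIdeal M (∏ i, (1 - Y) (σ i) i) := by
        rw [memLocalIdeal_prod_iff hM _ _ (fun i _ => hR _ _)]
        refine ⟨i, Finset.mem_univ _, ?_⟩
        rw [Matrix.sub_apply, Matrix.one_apply_ne hi, zero_sub]
        exact MemLocalIdeal.neg (hY _ _)
      rw [Units.smul_def, zsmul_eq_mul]
      exact MemLocalIdeal.mul_left hM (memLocalRing_intCast hM _) h2
    have h3 := MemLocalIdeal.sub hM hcon hrest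
    rw [add_sub_cancel_right] at h3
    simp only [Equiv.Perm.sign_one, one_smul, Equiv.Perm.coe_one, id_eq] at h3
    rw [memLocalIdeal_prod_iff hM _ _ (fun i _ => hR _ _)] at h3
    obtain ⟨i, -, hi⟩ := h3
    rw [Matrix.sub_apply, Matrix.one_apply_eq] at hi
    have := MemLocalIdeal.add hM hi (hY i i)
    rw [sub_add_cancel] at this
    exact not_memLocalIdeal_one hM this
  intro h0
  rw [h0] at h1
  exact h1 (memLocalIdeal_zero hM)

variable {G : Type*} [Group G] [Fintype G]

/-- coefficients in the local ring -/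
def IsInt (M : Ideal AlgInt) (x : MonoidAlgebra ℂ G) : Prop := ∀ g, MemLocalRing M (x.coeff g)

/-- coefficients in the local ideal -/
def IsJ (M : Ideal AlgInt) (x : MonoidAlgebra ℂ G) : Prop := ∀ g, MemLocalIdeal M (x.coeff g)

/-- Nakayama: `u = u * y` with `y` having coefficients in the local ideal forces `u = 0`. -/
theorem eq_zero_of_eq_mul (hM : M.IsPrime) {u y : MonoidAlgebra ℂ G} (hy : IsJ M y)
    (h : u = u * y) : u = 0 := by
  classical
  let Y : Matrix G G ℂ := fun a b => y.coeff (a⁻¹ * b)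
  have hdet := det_one_sub_ne_zero hM Y (fun i j => hy _)
  have hv : Matrix.vecMul (fun g => u.coeff g) (1 - Y) = 0 := by
    rw [Matrix.vecMul_sub, Matrix.vecMul_one]
    funext g
    have h1 := congrArg (fun z => z.coeff g) h
    simp only [coeff_mul_left] at h1
    simp only [Pi.sub_apply, Pi.zero_apply, Matrix.vecMul, dotProduct, Y]
    rw [← h1, sub_self]
  have := Matrix.eq_zero_of_vecMul_eq_zero hdet hv
  apply ma_ext
  intro g
  exact congrFun this g

theorem IsInt.mul (hM : M.IsPrime) {x y : MonoidAlgebra ℂ G} (hx : IsInt M x) (hy : IsInt M y) :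
    IsInt M (x * y) := by
  intro g
  rw [coeff_mul_left]
  exact MemLocalRing.sum hM _ _ fun h _ => MemLocalRing.mul hM (hx _) (hy _)

theorem IsInt.mul_isJ (hM : M.IsPrime) {x y : MonoidAlgebra ℂ G} (hx : IsInt M x) (hy : IsJ M y) :
    IsJ M (x * y) := by
  intro g
  rw [coeff_mul_left]
  exact MemLocalIdeal.sum hM _ _ fun h _ => MemLocalIdeal.mul_left hM (hx _) (hy _)

theorem IsJ.mul_isInt (hM : M.IsPrime) {x y : MonoidAlgebra ℂ G} (hx : IsJ M x) (hy : IsInt M y) :
    IsJ M (x * y) := by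
  intro g
  rw [coeff_mul_left]
  exact MemLocalIdeal.sum hM _ _ fun h _ => MemLocalIdeal.mul_right hM (hx _) (hy _)

theorem IsJ.add (hM : M.IsPrime) {x y : MonoidAlgebra ℂ G} (hx : IsJ M x) (hy : IsJ M y) :
    IsJ M (x + y) := by
  intro g
  rw [coeff_add, Finsupp.add_apply]
  exact MemLocalIdeal.add hM (hx _) (hy _)

theorem isInt_one (hM : M.IsPrime) : IsInt M (1 : MonoidAlgebra ℂ G) := by
  classical
  intro g
  rw [Cfsg.Agent.Lib.Helper77.coeff_one]
  split_ifs
  · exact memLocalRing_one hM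
  · exact memLocalRing_zero hM

theorem isJ_zero (hM : M.IsPrime) : IsJ M (0 : MonoidAlgebra ℂ G) := fun _ => memLocalIdeal_zero hM

theorem isJ_smul_one (hM : M.IsPrime) {c : ℂ} (hc : MemLocalIdeal M c) :
    IsJ M (c • (1 : MonoidAlgebra ℂ G)) := by
  classical
  intro g
  rw [coeff_smul, Finsupp.smul_apply, Cfsg.Agent.Lib.Helper77.coeff_one, smul_eq_mul]
  split_ifs
  · rw [mul_one]; exact hc
  · rw [mul_zero]; exact memLocalIdeal_zero hM

theorem ofFun_conv (a b : G → ℂ) : (ofFun (conv a b) : MonoidAlgebra ℂ G) = ofFun a * ofFun b := by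
  apply ma_ext
  intro g
  rw [coeff_mul_left]
  rfl

end nakayama


section cover

variable {G : Type*} [Group G] [Fintype G] (N : Subgroup G) [hN : N.Normal] [Fintype N]
variable {M : Ideal AlgInt}

/-- homogeneous of degree `s` for the grading by `G ⧸ N` -/
def HasDeg (x : MonoidAlgebra ℂ G) (s : G ⧸ N) : Prop := ∀ g, x.coeff g ≠ 0 → (g : G ⧸ N) = s

theorem HasDeg.mul {x y : MonoidAlgebra ℂ G} {s t : G ⧸ N} (hx : HasDeg N x s)
    (hy : HasDeg N y t) : HasDeg N (x * y) (s * t) := by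
  intro g hg
  rw [coeff_mul_left] at hg
  obtain ⟨h, -, hh⟩ := Finset.exists_ne_zero_of_sum_ne_zero hg
  have h1 := hx h (left_ne_zero_of_mul hh)
  have h2 := hy _ (right_ne_zero_of_mul hh)
  rw [← h1, ← h2, ← QuotientGroup.mk_mul, mul_inv_cancel_left]

theorem hasDeg_one : HasDeg N (1 : MonoidAlgebra ℂ G) 1 := by
  classical
  intro g hg
  rw [Cfsg.Agent.Lib.Helper77.coeff_one] at hg
  by_cases h : g = 1
  · rw [h]; rfl
  · rw [if_neg h] at hg; exact absurd rfl hg

theorem HasDeg.suppIn {x : MonoidAlgebra ℂ G} (hx : HasDeg N x 1) : SuppIn N x := by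
  intro g hg
  by_contra h
  exact hg ((QuotientGroup.eq_one_iff g).mp (hx g h))

open Classical in
/-- the homogeneous component of degree `s` -/
noncomputable def comp (x : MonoidAlgebra ℂ G) (s : G ⧸ N) : MonoidAlgebra ℂ G :=
  ofFun (fun g => if (g : G ⧸ N) = s then x.coeff g else 0)

open Classical in
theorem coeff_comp (x : MonoidAlgebra ℂ G) (s : G ⧸ N) (g : G) :
    (comp N x s).coeff g = if (g : G ⧸ N) = s then x.coeff g else 0 := rfl

theorem sum_comp [Fintype (G ⧸ N)] (x : MonoidAlgebra ℂ G) : ∑ s, comp N x s = x := by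
  classical
  apply ma_ext
  intro g
  rw [coeff_sum, Finsupp.finsetSum_apply]
  simp only [coeff_comp]
  rw [Finset.sum_ite_eq]
  simp

theorem hasDeg_comp (x : MonoidAlgebra ℂ G) (s : G ⧸ N) : HasDeg N (comp N x s) s := by
  classical
  intro g hg
  rw [coeff_comp] at hg
  by_contra h
  rw [if_neg h] at hg
  exact hg rfl

theorem isInt_comp (hM : M.IsPrime) {x : MonoidAlgebra ℂ G} (hx : IsInt M x) (s : G ⧸ N) :
    IsInt M (comp N x s) := by
  classical
  intro g
  rw [coeff_comp]
  split_ifs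
  · exact hx g
  · exact memLocalRing_zero hM

theorem fixedBy_comp {x : MonoidAlgebra ℂ G} (hx : FixedBy N x) (s : G ⧸ N) :
    FixedBy N (comp N x s) := by
  classical
  rw [fixedBy_iff_coeff] at hx ⊢
  intro u hu g
  rw [coeff_comp, coeff_comp, hx u hu g]
  have : ((u * g * u⁻¹ : G) : G ⧸ N) = (g : G ⧸ N) := by
    rw [QuotientGroup.mk_mul, QuotientGroup.mk_mul, QuotientGroup.mk_inv,
      (QuotientGroup.eq_one_iff u).mpr hu]
    simp
  rw [this]

/-- the central idempotent of `θ ∈ Irr(N)`, inside `ℂ[G]` -/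
noncomputable def eHat (θ : IrrCharacter N) : MonoidAlgebra ℂ G :=
  ofFun (extendByZero N (blockCoeff {θ}))

theorem suppIn_eHat (θ : IrrCharacter N) : SuppIn N (eHat N θ) := fun g hg =>
  extendByZero_not_mem N _ hg

theorem eHat_ne_zero (θ : IrrCharacter N) : eHat N θ ≠ 0 := by
  intro h
  have h1 := congrArg (fun z => z.coeff 1) h
  have h2 : (eHat N θ).coeff 1 = blockCoeff {θ} (1 : N) := extendByZero_coe N _ 1
  simp only [h2] at h1
  exact blockCoeff_one_ne_zero (B := {θ}) (Set.singleton_nonempty θ) h1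

omit hN [Fintype N] in
theorem conv_idem_eq {X : Type*} [Group X] [Fintype X] (θ : IrrCharacter X) {a : X → ℂ}
    (ha : IsClassFunction X a) :
    conv (blockCoeff {θ}) a = omega (θ : X → ℂ) a • blockCoeff {θ} := by
  classical
  apply eq_of_omega_eq (conv_isClassFunction (blockCoeff_isClassFunction _) ha)
  · intro g h
    simp only [Pi.smul_apply]
    rw [blockCoeff_isClassFunction]
  · intro φ
    rw [omega_conv φ.2 _ ha, omega_smul, omega_blockCoeff]
    by_cases h : φ = θ
    · subst h; simp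
    · rw [if_neg (by simpa using h)]; simp

theorem eHat_mul_of_suppIn (θ : IrrCharacter N) {w : MonoidAlgebra ℂ G} (hw : SuppIn N w)
    (hf : FixedBy N w) :
    eHat N θ * w = omega (θ : N → ℂ) (fun n : N => w.coeff n) • eHat N θ := by
  classical
  have hcl : IsClassFunction N (fun n : N => w.coeff (n : G)) := by
    intro g h
    exact (fixedBy_iff_coeff.mp hf) h h.2 g
  apply ma_ext
  intro g
  rw [coeff_mul_left, coeff_smul, Finsupp.smul_apply, smul_eq_mul]
  rw [sum_eq_sum_subgroup N (fun y => (eHat N θ).coeff y * w.coeff (y⁻¹ * g))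
    (fun y hy => by rw [suppIn_eHat N θ y hy, zero_mul])]
  by_cases hg : g ∈ N
  · have h1 := congrFun (conv_idem_eq θ hcl) ⟨g, hg⟩
    have h2 : (eHat N θ).coeff g = blockCoeff {θ} (⟨g, hg⟩ : N) := extendByZero_mem N _ hg
    rw [h2]
    simp only [Pi.smul_apply, smul_eq_mul] at h1
    rw [← h1]
    unfold conv
    apply Finset.sum_congr rfl
    intro y _
    have h3 : (eHat N θ).coeff (y : G) = blockCoeff {θ} y := extendByZero_coe N _ y
    rw [h3]
    rfl
  · rw [suppIn_eHat N θ g hg, mul_zero]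
    apply Finset.sum_eq_zero
    intro y _
    rw [hw _ (fun h => hg (by simpa using N.mul_mem y.2 h)), mul_zero]


/-- the block idempotent in `ℂ[G]` -/
noncomputable def eB (B : Set (IrrCharacter G)) : MonoidAlgebra ℂ G := ofFun (blockCoeff B)

omit hN [Fintype N] in
theorem eB_mul_self (B : Set (IrrCharacter G)) : eB B * eB B = eB B := by
  unfold eB
  rw [← ofFun_conv, conv_blockCoeff_self]

omit hN [Fintype N] in
theorem fixedBy_eB (B : Set (IrrCharacter G)) : FixedBy N (eB B) :=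
  fixedBy_iff_coeff.mpr (fun u _ x => blockCoeff_isClassFunction B x u)

omit hN [Fintype N] in
theorem isInt_eB (hM : M.IsPrime) {B : Set (IrrCharacter G)} (hB : IsPBlock M B) :
    IsInt M (eB B) := fun g => memLocalRing_blockCoeff hM hB g

theorem eHat_mul_eB_eq_zero (B : Set (IrrCharacter G)) (θ : IrrCharacter N)
    (h : ∀ χ ∈ B, classInner (fun n : N => (χ : G → ℂ) n) (θ : N → ℂ) = 0) :
    eHat N θ * eB B = 0 := by
  classical
  set a : G → ℂ := extendByZero N (blockCoeff (conjUnion N {θ})) with ha_def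
  have ha : IsClassFunction G a := extend_blockCoeff_conjUnion_isClassFunction N {θ}
  have hres : (fun n : N => a (n : G)) = blockCoeff (conjUnion N {θ}) :=
    funext fun n => extendByZero_coe N _ n
  have h1 : eHat N θ * ofFun a = eHat N θ := by
    rw [eHat_mul_of_suppIn N θ (w := ofFun a) (fun g hg => extendByZero_not_mem N _ hg)
      (fixedBy_iff_coeff.mpr fun u _ x => ha x u)]
    have h2 : (fun n : N => (ofFun a : MonoidAlgebra ℂ G).coeff (n : G)) =
        blockCoeff (conjUnion N {θ}) := hres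
    rw [h2, omega_blockCoeff, if_pos, one_smul]
    exact ⟨1, by
      have : cjIrr N 1 θ = θ := Subtype.ext (cj_one N _)
      rw [this]; rfl⟩
  have h2 : conv a (blockCoeff B) = 0 := by
    apply eq_of_omega_eq (conv_isClassFunction ha (blockCoeff_isClassFunction B)) (fun _ _ => rfl)
    intro χ
    rw [omega_conv χ.2 a (blockCoeff_isClassFunction B), omega_blockCoeff, omega_zero]
    by_cases hχ : χ ∈ B
    · obtain ⟨ψ, hψ⟩ := Cfsg.Agent.Lib.Helper80.exists_constituent_restrict χ N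
      rw [omega_eq_of_support N χ (fun g hg => extendByZero_not_mem N _ hg),
        omega_restrict_of_over N χ.2 ψ.2 hψ ha, hres, omega_blockCoeff, if_neg, zero_mul]
      rintro ⟨g, hg⟩
      have hg' : cjIrr N g ψ = θ := hg
      apply (over_cjIrr_iff N χ g ψ).mpr hψ
      rw [hg']
      exact h χ hχ
    · rw [if_neg hχ, mul_zero]
  calc eHat N θ * eB B = eHat N θ * ofFun a * eB B := by rw [h1]
    _ = eHat N θ * (ofFun a * ofFun (blockCoeff B)) := by rw [mul_assoc]; rfl
    _ = 0 := by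
      rw [← ofFun_conv, h2]
      have : (ofFun (0 : G → ℂ) : MonoidAlgebra ℂ G) = 0 := ma_ext fun _ => rfl
      rw [this, mul_zero]

open Classical in
theorem coeff_eHat_mul_comp (θ : IrrCharacter N) (x : MonoidAlgebra ℂ G) (s : G ⧸ N) (g : G) :
    (eHat N θ * comp N x s).coeff g =
      if (g : G ⧸ N) = s then (eHat N θ * x).coeff g else 0 := by
  rw [coeff_mul_left, coeff_mul_left]
  have h1 : ∀ y : G, (eHat N θ).coeff y * (comp N x s).coeff (y⁻¹ * g) =
      if (g : G ⧸ N) = s then (eHat N θ).coeff y * x.coeff (y⁻¹ * g) else 0 := by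
    intro y
    by_cases hy : y ∈ N
    · have h2 : ((y⁻¹ * g : G) : G ⧸ N) = (g : G ⧸ N) := by
        rw [QuotientGroup.mk_mul, QuotientGroup.mk_inv, (QuotientGroup.eq_one_iff y).mpr hy]
        simp
      rw [coeff_comp, h2]
      split_ifs <;> simp
    · rw [suppIn_eHat N θ y hy]
      split_ifs <;> simp
  simp only [h1]
  split_ifs
  · rfl
  · simp

theorem eHat_mul_eB_ne_zero (B : Set (IrrCharacter G)) (θ : IrrCharacter N) {χ₀ : IrrCharacter G}
    (hχ₀ : χ₀ ∈ B) (h : classInner (fun n : N => (χ₀ : G → ℂ) n) (θ : N → ℂ) ≠ 0) :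
    eHat N θ * eB B ≠ 0 := by
  classical
  have key : (eHat N θ * eB B).coeff 1 = (Fintype.card G : ℂ)⁻¹ * (θ : N → ℂ) 1 *
      ∑ χ : IrrCharacter G, (if χ ∈ B then (1 : ℂ) else 0) *
        ((χ : G → ℂ) 1 * classInner (fun n : N => (χ : G → ℂ) n) (θ : N → ℂ)) := by
    rw [coeff_mul_left, sum_eq_sum_subgroup N (fun y => (eHat N θ).coeff y * (eB B).coeff (y⁻¹ * 1))
      (fun y hy => by rw [suppIn_eHat N θ y hy, zero_mul])]
    have h1 : ∀ n : N, (eHat N θ).coeff (n : G) * (eB B).coeff ((n : G)⁻¹ * 1) =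
        ∑ χ : IrrCharacter G, (Fintype.card G : ℂ)⁻¹ * (θ : N → ℂ) 1 *
          ((if χ ∈ B then (1 : ℂ) else 0) * ((χ : G → ℂ) 1 *
            ((Nat.card N : ℂ)⁻¹ * ((χ : G → ℂ) n * conj ((θ : N → ℂ) n))))) := by
      intro n
      have h2 : (eHat N θ).coeff (n : G) = blockCoeff {θ} n := extendByZero_coe N _ n
      have h3 : (eB B).coeff ((n : G)⁻¹ * 1) = blockCoeff B ((n : G)⁻¹) := by rw [mul_one]; rfl
      rw [h2, h3, blockCoeff_singleton, blockCoeff_eq_sum, Finset.mul_sum, Finset.mul_sum]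
      apply Finset.sum_congr rfl
      intro χ _
      rw [irr_inv, Complex.conj_conj, Nat.card_eq_fintype_card]
      ring
    simp only [h1]
    rw [Finset.sum_comm, Finset.mul_sum]
    apply Finset.sum_congr rfl
    intro χ _
    unfold classInner
    rw [← Finset.mul_sum, ← Finset.mul_sum, ← Finset.mul_sum, ← Finset.mul_sum]
  intro h0
  have h1 := congrArg (fun z => z.coeff 1) h0
  simp only [key] at h1
  have hm : ∀ χ : IrrCharacter G, ∃ m : ℕ,
      classInner (fun n : N => (χ : G → ℂ) n) (θ : N → ℂ) = m := fun χ =>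
    IsCharacter.classInner_irr_nat (IsCharacter.restrict (IrrCharacter.isCharacter χ) N) θ
  choose m hm using hm
  have h2 : ∑ χ : IrrCharacter G, (if χ ∈ B then (1 : ℂ) else 0) *
        ((χ : G → ℂ) 1 * classInner (fun n : N => (χ : G → ℂ) n) (θ : N → ℂ)) =
      ((∑ χ : IrrCharacter G, if χ ∈ B then charDegree (χ : G → ℂ) * m χ else 0 : ℕ) : ℂ) := by
    rw [Nat.cast_sum]
    apply Finset.sum_congr rfl
    intro χ _
    rw [hm, irr_one_eq]
    split_ifs <;> simp
  have h3 : 0 < ∑ χ : IrrCharacter G, if χ ∈ B then charDegree (χ : G → ℂ) * m χ else 0 := by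
    apply Finset.sum_pos'
    · intro i _; positivity
    · refine ⟨χ₀, Finset.mem_univ _, ?_⟩
      rw [if_pos hχ₀]
      apply Nat.mul_pos (irr_charDegree_pos χ₀)
      apply Nat.pos_of_ne_zero
      intro h4
      apply h
      rw [hm, h4]; simp
  rw [h2] at h1
  have h4 : (Fintype.card G : ℂ)⁻¹ * (θ : N → ℂ) 1 ≠ 0 :=
    mul_ne_zero (inv_ne_zero (by exact_mod_cast Fintype.card_ne_zero)) (irr_one_ne_zero θ)
  have h5 : ((∑ χ : IrrCharacter G, if χ ∈ B then charDegree (χ : G → ℂ) * m χ else 0 : ℕ) : ℂ) ≠ 0 := by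
    exact_mod_cast h3.ne'
  exact mul_ne_zero h4 h5 h1


/-- **S4432.** If `B` covers `b`, then every `θ ∈ b` lies under some `χ ∈ B`. -/
theorem exists_over_of_covers (hM : M.IsPrime) {B : Set (IrrCharacter G)} (hB : IsPBlock M B)
    {b : Set (IrrCharacter N)} (hb : IsPBlock M b) (hc : Covers N B b) {θ : IrrCharacter N}
    (hθ : θ ∈ b) : ∃ χ ∈ B, classInner (fun n : N => (χ : G → ℂ) n) (θ : N → ℂ) ≠ 0 := by
  classical
  by_contra hcon
  push Not at hcon
  obtain ⟨χ₀, hχ₀, θ₀, hθ₀, h0⟩ := hc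
  have := Fintype.ofFinite (G ⧸ N)
  set ε := eB B with hε
  have hz1 : eHat N θ * ε = 0 := eHat_mul_eB_eq_zero N B θ hcon
  have hcomp1 : ∀ s, eHat N θ * comp N ε s = 0 := by
    intro s
    apply ma_ext
    intro g
    rw [coeff_eHat_mul_comp, hz1]
    split_ifs <;> rfl
  let A : G ⧸ N → MonoidAlgebra ℂ G := fun s => comp N ε s
  let good : MonoidAlgebra ℂ G → Prop := fun x => IsInt M x ∧ FixedBy N x
  let small : MonoidAlgebra ℂ G → Prop := fun x => ∃ y, IsJ M y ∧ x * eHat N θ₀ = eHat N θ₀ * y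
  have gA : ∀ t, good (A t) := fun t =>
    ⟨isInt_comp N hM (isInt_eB hM hB) t, fixedBy_comp N (fixedBy_eB N B) t⟩
  have gmul : ∀ x y, good x → good y → good (x * y) := fun x y hx hy =>
    ⟨hx.1.mul hM hy.1, hx.2.mul hy.2⟩
  have g1 : good 1 := ⟨isInt_one hM, Cfsg.Agent.Lib.Helper77.fixedBy_one N⟩
  have hword : ∀ l : List (G ⧸ N), good ((l.map A).prod) ∧ HasDeg N ((l.map A).prod) l.prod := by
    intro l
    induction l with
    | nil => exact ⟨by simpa using g1, by simpa using hasDeg_one N⟩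
    | cons t l ih =>
      simp only [List.map_cons, List.prod_cons]
      exact ⟨gmul _ _ (gA t) ih.1, (hasDeg_comp N ε t).mul N ih.2⟩
  have hcomm : ∀ x, good x → x * eHat N θ₀ = eHat N θ₀ * x := fun x hx =>
    hx.2.commute (suppIn_eHat N θ₀)
  have H : ∀ l : List (G ⧸ N), l ≠ [] → l.prod = 1 → small ((l.map A).prod) := by
    intro l hl hprod
    obtain ⟨hg, hd⟩ := hword l
    rw [hprod] at hd
    have hs := hd.suppIn N
    set w := (l.map A).prod with hw
    have h1 : eHat N θ * w = 0 := by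
      obtain ⟨t, l', rfl⟩ := List.exists_cons_of_ne_nil hl
      rw [hw, List.map_cons, List.prod_cons, ← mul_assoc]
      show eHat N θ * comp N ε t * _ = 0
      rw [hcomp1 t, zero_mul]
    rw [eHat_mul_of_suppIn N θ hs hg.2] at h1
    have h2 : omega (θ : N → ℂ) (fun n : N => w.coeff n) = 0 :=
      (smul_eq_zero.mp h1).resolve_right (eHat_ne_zero N θ)
    have hcl : IsClassFunction N (fun n : N => w.coeff (n : G)) := by
      intro g h
      exact (fixedBy_iff_coeff.mp hg.2) h h.2 g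
    have h3 := memLocalIdeal_omega_sub hM (IsPBlock.sameBlock hM hb hθ₀ hθ) hcl (fun n => hg.1 n)
    rw [h2, sub_zero] at h3
    refine ⟨omega (θ₀ : N → ℂ) (fun n : N => w.coeff n) • 1, isJ_smul_one hM h3, ?_⟩
    rw [hcomm w hg, eHat_mul_of_suppIn N θ₀ hs hg.2, mul_smul_comm, mul_one]
  have hsum : ∑ t, A t = ε := sum_comp N ε
  have hsmall := small_pow_card A good small g1 gmul gA
    (by rw [hsum]; exact ⟨isInt_eB hM hB, fixedBy_eB N B⟩)
    ⟨0, isJ_zero hM, by simp⟩
    (by
      rintro x y ⟨x', hx', hx⟩ ⟨y', hy', hy⟩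
      exact ⟨x' + y', hx'.add hM hy', by rw [add_mul, mul_add, hx, hy]⟩)
    (by
      rintro x z ⟨x', hx', hx⟩ hz
      exact ⟨z * x', hz.1.mul_isJ hM hx', by
        rw [mul_assoc, hx, ← mul_assoc, hcomm z hz, mul_assoc]⟩)
    (by
      rintro x z ⟨x', hx', hx⟩ hz
      exact ⟨x' * z, hx'.mul_isInt hM hz.1, by
        rw [mul_assoc, hcomm z hz, ← mul_assoc, hx, mul_assoc]⟩)
    H
  have hidem : IsIdempotentElem ε := eB_mul_self B
  rw [hsum, hidem.pow_eq (Fintype.card_ne_zero)] at hsmall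
  obtain ⟨y, hy, hyeq⟩ := hsmall
  have hu : ε * eHat N θ₀ = (ε * eHat N θ₀) * y := by
    calc ε * eHat N θ₀ = ε * ε * eHat N θ₀ := by rw [hidem.eq]
      _ = ε * (ε * eHat N θ₀) := mul_assoc _ _ _
      _ = ε * (eHat N θ₀ * y) := by rw [hyeq]
      _ = _ := (mul_assoc _ _ _).symm
  have hzero := eq_zero_of_eq_mul hM hy hu
  rw [hcomm ε ⟨isInt_eB hM hB, fixedBy_eB N B⟩] at hzero
  exact eHat_mul_eB_ne_zero N B θ₀ hχ₀ h0 hzero

end cover

end Cfsg.Agent.Lib.Helper35
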