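import Mathlib
import Cfsg.Prelude.Def_KGroupFacts

set_option autoImplicit false

namespace Cfsg.Agent.Lib.Helper35

universe u v w

open Subgroup

variable {Γ : Type u} [Group Γ]

/-- **Transfer lemma.** If `z` is central and lies in the commutator subgroup of `Γ`, and `H` has finite index,
then `z ^ [Γ : H]` lies in the commutator subgroup of `H`. -/
theorem pow_index_mem_commutator (H : Subgroup Γ) [H.FiniteIndex] {z : Γ} (hz : z ∈ center Γ)
    (hz' : z ∈ commutator Γ) :
    ∃ h : z ^ H.index ∈ H, (⟨z ^ H.index, h⟩ : H) ∈ commutator H := by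
  have key : ∀ (k : ℕ) (g₀ : Γ), g₀⁻¹ * z ^ k * g₀ ∈ H → g₀⁻¹ * z ^ k * g₀ = z ^ k := by
    intro k g₀ _
    have : z ^ k ∈ center Γ := pow_mem hz k
    rw [mul_assoc, mem_center_iff.mp this g₀ |>.symm, inv_mul_cancel_left]
  have h1 := MonoidHom.transfer_eq_pow (Abelianization.of : H →* Abelianization H) z key
  have h2 : MonoidHom.transfer (Abelianization.of : H →* Abelianization H) z = 1 :=
    Abelianization.commutator_subset_ker _ hz'
  refine ⟨MonoidHom.transfer_eq_pow_aux z key, ?_⟩
  rw [h2] at h1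
  rw [← Abelianization.ker_of, MonoidHom.mem_ker]
  exact h1.symm

/-- Version inside the ambient group. -/
theorem pow_index_mem_map_commutator (H : Subgroup Γ) [H.FiniteIndex] {z : Γ} (hz : z ∈ center Γ)
    (hz' : z ∈ commutator Γ) : z ^ H.index ∈ (commutator H).map H.subtype := by
  obtain ⟨h, h'⟩ := pow_index_mem_commutator H hz hz'
  exact ⟨_, h', rfl⟩

end Cfsg.Agent.Lib.Helper35
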